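import Groth.Agent.S3482
import Groth.Agent.S0233
import Groth.Agent.S0236
import Groth.Agent.S14625
import Groth.Agent.Lib.CdOne18.Br
import Groth.Prelude.Def_PicLoc

/-!
# Étale cohomology of the affine line
-/

set_option autoImplicit false
set_option backward.isDefEq.respectTransparency false
set_option backward.isDefEq.respectTransparency.types false
set_option linter.style.haveILetI false
set_option linter.all false

universe u

open CategoryTheory CategoryTheory.Limits CategoryTheory.Abelian AlgebraicGeometry Opposite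
open Polynomial

noncomputable section

namespace GrothLib.AffLine18

variable {k : Type u} [Field k] [IsAlgClosed k]

theorem isSepClosed_residueField (A : Type u) [CommRing A] [Algebra k A] [Algebra.FiniteType k A]
    (x : Spec (CommRingCat.of A)) (hx : IsClosed ({x} : Set (Spec (CommRingCat.of A)))) :
    IsSepClosed ((Spec (CommRingCat.of A)).residueField x) := by
  let P : PrimeSpectrum A := x
  haveI : P.asIdeal.IsMaximal := (PrimeSpectrum.isClosed_singleton_iff_isMaximal P).1 hx
  haveI : Algebra.FiniteType k P.asIdeal.ResidueField :=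
    Algebra.FiniteType.of_surjective (IsScalarTower.toAlgHom k A P.asIdeal.ResidueField)
      (Ideal.algebraMap_residueField_surjective _)
  haveI : Module.Finite k P.asIdeal.ResidueField := finite_of_finite_type_of_isJacobsonRing k _
  let e : k ≃+* P.asIdeal.ResidueField :=
    RingEquiv.ofBijective _ IsAlgClosed.algebraMap_bijective_of_isIntegral
  haveI : IsSepClosed k := inferInstance
  exact GrothLib.GalCd.isSepClosed_of_ringEquiv
    (e.trans (Scheme.Spec.residueFieldIso (CommRingCat.of A) P).symm.commRingCatIsoToRingEquiv)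

theorem killZero_fractionRing {ℓ : ℕ} (hℓ : ℓ.Prime) :
    GrothLib.CdOne18.KillZero (FractionRing k[X]) ℓ := by
  haveI : IsSepClosed k := inferInstance
  have h0 : Dix.CohDimLEAt (Spec (CommRingCat.of k)) ℓ 0 := fun F hF q hq =>
    GrothLib.EtBasicB.subsingleton_H_zeroDim _
      (fun s => by
        rw [show ({s} : Set (Spec (CommRingCat.of k))) = Set.univ from
          Set.eq_univ_of_forall fun t => Subsingleton.elim (α := PrimeSpectrum k) t s]
        exact isClosed_univ)
      (fun s => isSepClosed_residueField (k := k) k s (by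
        rw [show ({s} : Set (Spec (CommRingCat.of k))) = Set.univ from
          Set.eq_univ_of_forall fun t => Subsingleton.elim (α := PrimeSpectrum k) t s]
        exact isClosed_univ)) F q hq
  have hadj : IntermediateField.adjoin k
      ((({algebraMap k[X] (FractionRing k[X]) X} : Finset (FractionRing k[X]))) : Set (FractionRing k[X])) = ⊤ := by
    rw [eq_top_iff]
    intro z _
    obtain ⟨a, b, hb, rfl⟩ := IsFractionRing.div_surjective (A := k[X]) z
    have hmem : ∀ c : k[X], algebraMap k[X] (FractionRing k[X]) c ∈ IntermediateField.adjoin k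
        ((({algebraMap k[X] (FractionRing k[X]) X} : Finset (FractionRing k[X]))) : Set (FractionRing k[X])) := fun c => by
      rw [show algebraMap k[X] (FractionRing k[X]) c = aeval (algebraMap k[X] (FractionRing k[X]) X) c by
        rw [aeval_algebraMap_apply, aeval_X_left_apply]]
      refine IntermediateField.algebra_adjoin_le_adjoin k _ ?_
      rw [Finset.coe_singleton, Algebra.adjoin_singleton_eq_range_aeval]
      exact ⟨c, rfl⟩
    exact div_mem (hmem a) (hmem b)
  haveI : FaithfulSMul k[X] (FractionRing k[X]) :=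
    (faithfulSMul_iff_algebraMap_injective _ _).2 (IsFractionRing.injective k[X] (FractionRing k[X]))
  haveI : Algebra.IsAlgebraic k[X] (FractionRing k[X]) :=
    IsLocalization.isAlgebraic (R := k[X]) (FractionRing k[X]) (nonZeroDivisors k[X])
  have ht : Algebra.trdeg k (FractionRing k[X]) = ((1 : ℕ) : Cardinal) := by
    rw [← trdeg_add_eq k k[X] (A := FractionRing k[X]), trdeg_eq_zero (R := k[X]) (A := FractionRing k[X]),
      add_zero, Polynomial.trdeg_of_isDomain]
    simp
  have h := Groth.Agent.S3482.result k (FractionRing k[X]) ⟨_, hadj⟩ ℓ hℓ 1 ht 0 h0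
  rw [zero_add] at h
  simpa using GrothLib.CdOne18.killZero_of_cohDimLEAt h 1

theorem killZero_of_primes (K : Type u) [Field K] (n : ℕ) (hn : n ≠ 0)
    (hκ : ∀ p : ℕ, p.Prime → p ∣ n → GrothLib.CdOne18.KillZero K p) :
    GrothLib.CdOne18.KillZero K n := by
  induction n using Nat.strong_induction_on with
  | _ n ih =>
    intro G hG r hr a
    by_cases h1 : n = 1
    · rw [h1, one_smul] at hG
      rw [← Ext.comp_mk₀_id a, hG]
      simp
    obtain ⟨p, hp, m, rfl⟩ := Nat.exists_prime_and_dvd h1
    have hm : m ≠ 0 := right_ne_zero_of_mul hn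
    let T := ShortComplex.mk (kernel.ι (p • 𝟙 G)) (cokernel.π (kernel.ι (p • 𝟙 G))) (cokernel.condition _)
    have hT : T.ShortExact := { exact := T.exact_of_g_is_cokernel (cokernelIsCokernel _) }
    let b : T.X₃ ⟶ G := Abelian.factorThruCoimage (p • 𝟙 G)
    have hb : T.g ≫ b = p • 𝟙 G := Abelian.coimage.fac _
    haveI : Mono b := inferInstanceAs (Mono (Abelian.factorThruCoimage _))
    have hQ : m • 𝟙 T.X₃ = 0 := by
      haveI : Epi T.g := hT.epi_g
      rw [← cancel_mono b, ← cancel_epi T.g, Preadditive.nsmul_comp, Category.id_comp, Preadditive.comp_nsmul, hb,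
        Limits.zero_comp, Limits.comp_zero, ← mul_nsmul', mul_comm m p, hG]
    have hK : p • 𝟙 T.X₁ = 0 := by
      rw [← cancel_mono (kernel.ι (p • 𝟙 G)), Preadditive.nsmul_comp, Category.id_comp, Limits.zero_comp]
      have := kernel.condition (p • 𝟙 G)
      rwa [Preadditive.comp_nsmul, Category.comp_id] at this
    obtain ⟨w, hw⟩ := Ext.covariant_sequence_exact₂ _ hT a
      (ih m (lt_mul_left (Nat.pos_of_ne_zero hm) hp.one_lt) hm
        (fun p' hp' hd => hκ p' hp' (hd.mul_left p)) T.X₃ hQ r hr _)
    rw [← hw, hκ p hp (dvd_mul_right p m) T.X₁ hK r hr w, Ext.zero_comp]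

theorem killZero_maxPts {n : ℕ} (hn : n ≠ 0) (x : GrothLib.GalCd.MaxPts (Spec (CommRingCat.of k[X]))) :
    GrothLib.CdOne18.KillZero ((Spec (CommRingCat.of k[X])).residueField x.1 : Type u) n := by
  let P : PrimeSpectrum k[X] := x.1
  have hP : P = ⊥ := (x.2 (⊥ : PrimeSpectrum k[X])
    ((PrimeSpectrum.le_iff_specializes (⊥ : PrimeSpectrum k[X]) P).1 bot_le)).symm
  have h : GrothLib.CdOne18.KillZero (FractionRing k[X]) n :=
    killZero_of_primes _ n hn fun p hp _ => killZero_fractionRing hp
  obtain ⟨g⟩ : Nonempty (FractionRing k[X] ≃+* ((Spec (CommRingCat.of k[X])).residueField P : Type u)) := by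
    rw [hP]
    exact ⟨(IsLocalization.algEquiv (nonZeroDivisors k[X]) (FractionRing k[X])
      (⊥ : Ideal k[X]).ResidueField).toRingEquiv.trans
      (Scheme.Spec.residueFieldIso (CommRingCat.of k[X]) (⊥ : PrimeSpectrum k[X])).symm.commRingCatIsoToRingEquiv⟩
  letI := g.toRingHom.toAlgebra
  haveI : Algebra.IsSeparable (FractionRing k[X]) ((Spec (CommRingCat.of k[X])).residueField x.1 : Type u) :=
    ⟨fun z => by
      obtain ⟨y, rfl⟩ := g.surjective z
      exact isSeparable_algebraMap y⟩
  exact GrothLib.CdOne18.killZero_ext h _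

theorem krullDim_line : topologicalKrullDim (Spec (CommRingCat.of k[X])) ≤ 1 := by
  rw [show topologicalKrullDim (Spec (CommRingCat.of k[X])) = ringKrullDim k[X] from
    PrimeSpectrum.topologicalKrullDim_eq_ringKrullDim k[X]]
  exact Ring.krullDimLE_iff.1 inferInstance

theorem subsingleton_H_one_Gm : Subsingleton (EtCoh.H (Spec (CommRingCat.of k[X])) (EtCoh.Gm _) 1) := by
  refine (Groth.Agent.S0236.result _).2 fun L hL => ?_
  let X₀ := Spec (CommRingCat.of k[X])
  obtain ⟨s, hs⟩ := GrothLib.InvExt.exists_gen_of_local (R := CommRingCat.of k[X]) L ⊤ fun x _ => by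
    obtain ⟨V, e, hx, he⟩ := GrothLib.InvExt.exists_gen_nhd hL x
    exact ⟨V, e, hx, le_top, he⟩
  obtain ⟨φ⟩ := GrothLib.InvExt.exists_iso_of_gen hs
  let t : X₀ ⟶ ((⊤ : X₀.Opens) : Scheme.{u}) := X₀.topIso.inv
  refine ⟨((Scheme.Modules.restrictFunctorId (X := X₀)).app L).symm ≪≫
    (Scheme.Modules.restrictFunctorCongr (f := 𝟙 X₀) (g := t ≫ (⊤ : X₀.Opens).ι)
      (Scheme.topIso X₀).inv_hom_id.symm).app L ≪≫
    (Scheme.Modules.restrictFunctorComp t (⊤ : X₀.Opens).ι).app L ≪≫
    (Scheme.Modules.restrictFunctor t).mapIso φ ≪≫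
    (Scheme.Modules.restrictFunctorIsoPullback t).app _ ≪≫ PicLoc.pullbackStructureIso t⟩

end GrothLib.AffLine18
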