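import Groth.Agent.Lib.AffLine18.Basic
import Groth.Agent.Lib.EtTrace21.Killed
import Groth.Agent.Lib.EtTrace21.Torsion
import Groth.Agent.Lib.EtBasicB.RootCover
import Groth.Agent.Lib.EtColim.Cohomology

/-!
# Vanishing of the étale cohomology of the affine line with finite constant coefficients
-/

set_option autoImplicit false
set_option backward.isDefEq.respectTransparency false
set_option backward.isDefEq.respectTransparency.types false
set_option linter.style.haveILetI false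
set_option linter.all false

universe u

open CategoryTheory CategoryTheory.Limits CategoryTheory.Abelian AlgebraicGeometry Opposite
open Polynomial

noncomputable section

namespace GrothLib.AffLine18

variable {k : Type u} [Field k] [IsAlgClosed k]

theorem exists_root_unit (ℓ : ℕ) (hℓ : ℓ ≠ 0) (u : Γ(Spec (CommRingCat.of k[X]), ⊤)ˣ) :
    ∃ v : Γ(Spec (CommRingCat.of k[X]), ⊤)ˣ, v ^ ℓ = u := by
  let e : Γ(Spec (CommRingCat.of k[X]), ⊤) ≃+* k[X] :=
    (Scheme.ΓSpecIso (CommRingCat.of k[X])).commRingCatIsoToRingEquiv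
  obtain ⟨c, hc, hcu⟩ := Polynomial.isUnit_iff.1 (u.isUnit.map e)
  obtain ⟨d, hd⟩ := IsAlgClosed.exists_pow_nat_eq c (Nat.pos_of_ne_zero hℓ)
  have hd' : IsUnit d := (isUnit_pow_iff hℓ).1 (hd ▸ hc)
  refine ⟨((hd'.map (C (R := k))).map e.symm).unit, Units.ext ?_⟩
  rw [Units.val_pow_eq_pow_val, IsUnit.unit_spec, ← map_pow, ← map_pow, hd, hcu]
  exact e.symm_apply_apply _

theorem invertibleOn {ℓ : ℕ} (hℓ : (ℓ : k) ≠ 0) :
    Dix.InvertibleOn (Spec (CommRingCat.of k[X])) ℓ := fun x h => by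
  let φ : k →+* (Spec (CommRingCat.of k[X])).residueField x :=
    ((Scheme.Spec.residueFieldIso (CommRingCat.of k[X]) x).inv.hom.comp
      (algebraMap k[X] (x.asIdeal.ResidueField))).comp C
  exact hℓ (φ.injective (by rw [map_natCast, map_zero, h]))

/-- `H^q(A¹, μ_ℓ) = 0` for `q ≥ 1`. -/
theorem subsingleton_H_mu (ℓ : ℕ) (hℓ : (ℓ : k) ≠ 0) (q : ℕ) (hq : 1 ≤ q) :
    Subsingleton (EtCoh.H (Spec (CommRingCat.of k[X])) (EtCoh.mu _ ℓ) q) := by
  let L := Spec (CommRingCat.of k[X])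
  have hne : ℓ ≠ 0 := by rintro rfl; simp at hℓ
  have hinv := invertibleOn hℓ
  have hsep : ∀ x : L, IsClosed ({x} : Set L) → IsSepClosed (L.residueField x) := fun x hx =>
    isSepClosed_residueField (k := k) k[X] x hx
  haveI : Epi (EtCoh.powMap L ℓ) := GrothLib.EtBasicB.powMap_epi L ℓ
    (L.toRingedSpace.isUnit_of_isUnit_germ ⊤ (ℓ : Γ(L, ⊤)) fun x hx => by
      rw [map_natCast]
      exact GrothLib.CdOne18.isUnit_stalk_of_invertible hinv x)
  let S := ShortComplex.mk (EtCoh.muι L ℓ) (EtCoh.powMap L ℓ) (kernel.condition _)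
  haveI : Mono S.f := inferInstanceAs (Mono (kernel.ι _))
  have hS : S.ShortExact := { exact := S.exact_of_f_is_kernel (kernelIsKernel _) }
  have hz : ∀ z : EtCoh.H L (EtCoh.mu L ℓ) q, z = 0 := by
    intro z
    rcases Nat.lt_or_ge q 3 with h2 | h3
    swap
    · exact GrothLib.CdOne18.H_eq_zero_of_killed_primes krullDim_line hsep ℓ hne
        (fun p hp _ x => killZero_maxPts hp.ne_zero x) _ (GrothLib.CdOne18.killed_mu ℓ) q h3 z
    have h1 : Ext.comp z (Ext.mk₀ S.f) (add_zero q) = 0 := by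
      rcases (show q = 1 ∨ q = 2 by omega) with rfl | rfl
      · exact (subsingleton_H_one_Gm (k := k)).elim _ _
      · refine GrothLib.CdOne18.primary_H_Gm_eq_zero krullDim_line hsep ℓ hinv
          (fun x => killZero_maxPts hne x) 2 le_rfl _ ?_
        rw [← GrothLib.EtTrace21.comp_nsmul_id, Ext.comp_assoc_of_third_deg_zero, Ext.mk₀_comp_mk₀,
          show S.f ≫ (ℓ • 𝟙 (EtCoh.Gm L)) = 0 from S.zero, Ext.mk₀_zero, Ext.comp_zero]
    rcases (show q = 1 ∨ q = 2 by omega) with rfl | rfl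
    · obtain ⟨w, rfl⟩ := Ext.covariant_sequence_exact₁ _ hS z h1 (rfl : 0 + 1 = 1)
      obtain ⟨y, rfl⟩ : ∃ y : GrothLib.EtColim.Z L ⟶ EtCoh.Gm L, Ext.mk₀ y = w :=
        ⟨_, Ext.mk₀_addEquiv₀_apply w⟩
      let s : EtCoh.sect (EtCoh.Gm L) (EtCoh.top L) := GrothLib.EtColim.evOne _ y
      obtain ⟨v, hv⟩ := exists_root_unit ℓ hne (Additive.toMul s.down)
      obtain ⟨x, hx⟩ := (GrothLib.EtColim.bijective_evOne (EtCoh.Gm L)).2
        (ULift.up (Additive.ofMul v))
      have hxy : x ≫ S.g = y := by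
        refine (GrothLib.EtColim.bijective_evOne _).1 ?_
        have hadd : ∀ m : ℕ, GrothLib.EtColim.evOne (EtCoh.Gm L) (m • x) =
            m • GrothLib.EtColim.evOne (EtCoh.Gm L) x := fun m =>
          map_nsmul (AddMonoidHom.mk' (GrothLib.EtColim.evOne (EtCoh.Gm L)) fun _ _ => rfl) m x
        rw [show x ≫ S.g = ℓ • x from (Preadditive.comp_nsmul _ _ _).trans (by rw [Category.comp_id]),
          hadd, hx]
        exact ULift.ext _ _ (Additive.toMul.injective hv)
      rw [← hxy, ← Ext.mk₀_comp_mk₀]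
      exact (Ext.comp_assoc_of_second_deg_zero _ _ _ _).trans (by rw [hS.comp_extClass, Ext.comp_zero])
    · obtain ⟨w, rfl⟩ := Ext.covariant_sequence_exact₁ _ hS z h1 (rfl : 1 + 1 = 2)
      rw [(subsingleton_H_one_Gm (k := k)).elim w 0, Ext.zero_comp]
  exact ⟨fun a b => (hz a).trans (hz b).symm⟩

end GrothLib.AffLine18
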