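import Groth.Agent.Lib.AffLine18.Mu
import Groth.Agent.Lib.EtDer.ConstSec
import Groth.Agent.Lib.EtDer.PullConst
import Groth.Agent.Lib.EtDer.Henselian
import Groth.Agent.Lib.ExtZero.Open
import Groth.Agent.Lib.EtBasicB.GlobalSections
import Groth.Agent.S14451
import Groth.Prelude.Def_EtCore

/-!
# `j_! μ` on the affine line minus finitely many points
-/

set_option autoImplicit false
set_option backward.isDefEq.respectTransparency false
set_option backward.isDefEq.respectTransparency.types false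
set_option linter.style.haveILetI false
set_option linter.all false

universe u

open CategoryTheory CategoryTheory.Limits CategoryTheory.Abelian AlgebraicGeometry Opposite
open Polynomial
open GrothLib.EtDer

noncomputable section

namespace GrothLib.AffLine18

theorem val_add {X : Scheme.{u}} (M : AddCommGrpCat.{u + 1}) (V : X.Etale)
    (s t : (CM M X).obj.obj (op V)) (v : V.left) :
    val M V (s + t) v = val M V s v + val M V t v := by
  obtain ⟨O, c, hv, hs⟩ := exists_open_cst M V s v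
  obtain ⟨O', c', hv', ht⟩ := exists_open_cst M V t v
  rw [val_eq M V s hs v hv, val_eq M V t ht v hv']
  refine val_eq M V _ (O := O ⊓ O') ?_ v ⟨hv, hv'⟩
  rw [map_add, map_add]
  refine congrArg₂ (· + ·) ?_ ?_
  · rw [← opensMap_opensHom V (inf_le_left : O ⊓ O' ≤ O), op_comp, Functor.map_comp_apply, hs, map_cst]
  · rw [← opensMap_opensHom V (inf_le_right : O ⊓ O' ≤ O'), op_comp, Functor.map_comp_apply, ht, map_cst]

variable {k : Type u} [Field k] [IsAlgClosed k]

theorem nonempty_mu_iso_const (ℓ : ℕ) (hℓ : (ℓ : k) ≠ 0) {Y : Scheme.{u}}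
    (f : Y ⟶ Spec (CommRingCat.of k)) : Nonempty (EtCoh.mu Y ℓ ≅ EtCoh.const Y (ZMod ℓ)) := by
  refine Groth.Agent.S14625.result k ⟨inferInstance, ?_⟩ ℓ
    (Nat.one_le_iff_ne_zero.2 (by rintro rfl; simp at hℓ)) (Ne.isUnit hℓ) Y f
  haveI : IsSepClosed k := inferInstance
  exact GrothLib.GalCd.isSepClosed_of_ringEquiv
    (RingEquiv.ofBijective (IsLocalRing.residue k) ⟨RingHom.injective _, IsLocalRing.residue_surjective⟩)

variable {r : ℕ} (a : Fin r → k)

/-- Evaluation at the points. -/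
def evPts : k[X] →+* (Fin r → k) := Pi.ringHom fun m => Polynomial.evalRingHom (a m)

theorem evPts_surjective (ha : Function.Injective a) : Function.Surjective (evPts a) := fun f =>
  ⟨Lagrange.interpolate Finset.univ a f, funext fun m =>
    Lagrange.eval_interpolate_at_node f (ha.injOn) (Finset.mem_univ m)⟩

/-- The closed subscheme of the points. -/
abbrev Pts (k : Type u) [Field k] (r : ℕ) : Scheme.{u} := Spec (CommRingCat.of (Fin r → k))

/-- Its points. -/
def pt (m : Fin r) : Pts k r := PrimeSpectrum.sigmaToPi (fun _ : Fin r => k) ⟨m, ⊥⟩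

theorem pt_injective : Function.Injective (pt (k := k) (r := r)) := fun m m' h =>
  congrArg Sigma.fst (PrimeSpectrum.sigmaToPi_injective (fun _ : Fin r => k) h)

theorem pt_surjective : Function.Surjective (pt (k := k) (r := r)) := fun p => by
  obtain ⟨m, q, hq⟩ := PrimeSpectrum.exists_comap_evalRingHom_eq (R := fun _ : Fin r => k) p
  refine ⟨m, ?_⟩
  rw [← hq, Subsingleton.elim q ⊥]
  rfl

theorem finite_pts : Finite (Pts k r) := Finite.of_surjective pt pt_surjective

theorem isClosed_singleton_pts (s : Pts k r) : IsClosed ({s} : Set (Pts k r)) := by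
  obtain ⟨m, rfl⟩ := pt_surjective s
  refine (PrimeSpectrum.isClosed_singleton_iff_isMaximal _).2 ?_
  exact Ideal.comap_isMaximal_of_surjective (Pi.evalRingHom (fun _ : Fin r => k) m)
    (Function.surjective_eval m) (H := Ideal.bot_isMaximal)

variable {U : Scheme.{u}} (j : U ⟶ Spec (CommRingCat.of k[X]))

/-- The inclusion of the points. -/
def ptsι : Pts k r ⟶ Spec (CommRingCat.of k[X]) := Spec.map (CommRingCat.ofHom (evPts a))

theorem mem_range_ptsι_iff (x : PrimeSpectrum k[X]) :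
    (x : Spec (CommRingCat.of k[X])) ∈ Set.range (ptsι a).base ↔
      (Finset.univ.prod fun m => (X - C (a m))) ∈ x.asIdeal := by
  constructor
  · rintro ⟨p, rfl⟩
    obtain ⟨m, rfl⟩ := pt_surjective p
    change evPts a (Finset.univ.prod fun m => (X - C (a m))) ∈
      (Ideal.comap (Pi.evalRingHom (fun _ : Fin r => k) m) ⊥)
    rw [Ideal.mem_comap, Ideal.mem_bot]
    change Polynomial.eval (a m) (Finset.univ.prod fun m => (X - C (a m))) = 0
    rw [Polynomial.eval_prod]
    exact Finset.prod_eq_zero (Finset.mem_univ m) (by simp)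
  · intro h
    obtain ⟨m, -, hm⟩ := x.2.prod_mem_iff.1 h
    refine ⟨pt m, PrimeSpectrum.ext ?_⟩
    change Ideal.comap (evPts a) (Ideal.comap (Pi.evalRingHom (fun _ : Fin r => k) m) ⊥) = x.asIdeal
    rw [Ideal.comap_comap]
    have hker : Ideal.comap ((Pi.evalRingHom (fun _ : Fin r => k) m).comp (evPts a)) ⊥ =
        Ideal.span {X - C (a m)} := by
      ext f
      rw [Ideal.mem_comap, Ideal.mem_bot, Ideal.mem_span_singleton, Polynomial.dvd_iff_isRoot]
      exact Iff.rfl
    rw [hker]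
    haveI : (Ideal.span {X - C (a m)}).IsMaximal :=
      PrincipalIdealRing.isMaximal_of_irreducible (Polynomial.irreducible_X_sub_C (a m))
    exact Ideal.IsMaximal.eq_of_le inferInstance x.2.ne_top
      ((Ideal.span_singleton_le_iff_mem _).2 hm)

theorem range_eq_compl [IsOpenImmersion j]
    (hj : j.opensRange = (Spec (CommRingCat.of k[X])).basicOpen ((Scheme.ΓSpecIso (CommRingCat.of k[X])).inv
      (Finset.univ.prod fun m => (X - C (a m))))) :
    Set.range j.base = (Set.range (ptsι a).base)ᶜ := by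
  rw [← Scheme.Hom.coe_opensRange j, hj, basicOpen_eq_of_affine]
  ext x
  exact Iff.not (mem_range_ptsι_iff a x).symm

theorem H_extZero_mu (ℓ : ℕ) (hℓ : (ℓ : k) ≠ 0) (hr : 0 < r) (ha : Function.Injective a)
    [IsOpenImmersion j] [Etale j] [EtShriek.JCont j]
    (hj : j.opensRange = (Spec (CommRingCat.of k[X])).basicOpen ((Scheme.ΓSpecIso (CommRingCat.of k[X])).inv
      (Finset.univ.prod fun m => (X - C (a m))))) :
    (∀ s : ℕ, s ≠ 1 → Subsingleton (EtCoh.H (Spec (CommRingCat.of k[X])) ((EtShriek.extZero j).obj (EtCoh.mu U ℓ)) s)) ∧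
      Nonempty (EtCoh.H (Spec (CommRingCat.of k[X])) ((EtShriek.extZero j).obj (EtCoh.mu U ℓ)) 1 ≃+
        (Fin (r - 1) → Additive (rootsOfUnity ℓ k))) := by
  let L := Spec (CommRingCat.of k[X])
  let Zs := Pts k r
  let M : AddCommGrpCat.{u + 1} := AddCommGrpCat.of (ULift.{u + 1} (ZMod ℓ))
  let F : EtCoh.Ab L := EtCoh.const L (ZMod ℓ)
  let i : Zs ⟶ L := ptsι a
  haveI : IsClosedImmersion i := IsClosedImmersion.spec_of_surjective _ (evPts_surjective a ha)
  haveI := GrothLib.EtSite.pull_preservesFiniteLimits i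
  obtain ⟨eμ⟩ := nonempty_mu_iso_const ℓ hℓ (Spec.map (CommRingCat.ofHom (C (R := k))))
  obtain ⟨eU⟩ := nonempty_mu_iso_const ℓ hℓ (j ≫ Spec.map (CommRingCat.ofHom (C (R := k))))
  obtain ⟨w, hT⟩ := GrothLib.ExtZero.shortExact_localization i j (range_eq_compl a j hj) F
  let T : ShortComplex (EtCoh.Ab L) := ShortComplex.mk _ _ w
  let eX : T.X₁ ≅ (EtShriek.extZero j).obj (EtCoh.mu U ℓ) :=
    (EtShriek.extZero j).mapIso ((GrothLib.ExtZero.restrIsoPull j).app F ≪≫
      EtCore.pullConst j (ZMod ℓ) ≪≫ eU.symm)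
  have hF : ∀ q : ℕ, 1 ≤ q → ∀ y : EtCoh.H L T.X₂ q, y = 0 := fun q hq y => by
    obtain ⟨z, rfl⟩ := (GrothLib.EtDer.bijective_comp_mk₀ eμ q).2 y
    haveI := subsingleton_H_mu (k := k) ℓ hℓ q hq
    rw [Subsingleton.elim z 0]
    exact Ext.zero_comp _ _ _ _ (add_zero q)
  have hsepZ : ∀ s : Zs, IsSepClosed (Zs.residueField s) := fun s =>
    isSepClosed_residueField (k := k) (Fin r → k) s (isClosed_singleton_pts s)
  have hP : ∀ q : ℕ, 1 ≤ q → ∀ y : EtCoh.H L T.X₃ q, y = 0 := fun q hq y => by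
    haveI : Subsingleton (EtCoh.H L T.X₃ q) := GrothLib.EtDer.subsingleton_H_push i _ q
      (GrothLib.EtBasicB.subsingleton_H_zeroDim Zs isClosed_singleton_pts hsepZ _ q hq)
    exact Subsingleton.elim _ _
  -- global sections of the sheaf on the points
  haveI : Finite Zs := finite_pts
  haveI : T1Space Zs := ⟨isClosed_singleton_pts⟩
  haveI : DiscreteTopology Zs := Finite.instDiscreteTopology
  let p : Fin r → (EtCoh.top Zs).left := fun m => pt m
  have hp : Function.Surjective p := pt_surjective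
  haveI : DiscreteTopology (EtCoh.top Zs).left := inferInstanceAs (DiscreteTopology Zs)
  let g₁ := (EtCore.pushGsecIso i).hom.app ((EtCoh.pull i).obj F)
  let g₂ := (EtCore.gsec Zs).map ((EtCore.pullConstIso i).hom.app M)
  let β : (GrothLib.EtColim.Z L ⟶ T.X₃) →+ (Fin r → M) :=
    AddMonoidHom.mk' (fun y m => val M (EtCoh.top Zs) (g₂ (g₁ (GrothLib.EtColim.evOne T.X₃ y))) (p m))
      fun y y' => funext fun m => by
        refine Eq.trans ?_ (val_add M (EtCoh.top Zs) _ _ (p m))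
        exact congrArg (fun t => val M (EtCoh.top Zs) t (p m))
          ((congrArg g₂ (map_add g₁.hom (GrothLib.EtColim.evOne T.X₃ y) (GrothLib.EtColim.evOne T.X₃ y'))).trans
            (map_add g₂.hom _ _))
  have hb₁ : Function.Bijective g₁ := ConcreteCategory.bijective_of_isIso g₁
  have hb₂ : Function.Bijective g₂ := ConcreteCategory.bijective_of_isIso g₂
  have hβ : Function.Bijective β := by
    constructor
    · intro y y' h
      refine (GrothLib.EtColim.bijective_evOne T.X₃).1 (hb₁.1 (hb₂.1 (ext_val M _ _ _ fun v => ?_)))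
      obtain ⟨m, rfl⟩ := hp v
      exact congrFun h m
    · intro f
      obtain ⟨s, hs⟩ := exists_val M (EtCoh.top Zs)
        (fun v => f (Function.surjInv hp v)) (IsLocallyConstant.of_discrete _)
      obtain ⟨s₁, rfl⟩ := hb₂.2 s
      obtain ⟨s₂, rfl⟩ := hb₁.2 s₁
      obtain ⟨y, rfl⟩ := (GrothLib.EtColim.bijective_evOne T.X₃).2 s₂
      refine ⟨y, funext fun m => ?_⟩
      refine (hs (p m)).trans (congrArg f ?_)
      exact pt_injective (Function.surjInv_eq hp (p m))
  -- the sections of the constant sheaf restrict diagonally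
  haveI : PreconnectedSpace (EtCoh.top L).left :=
    inferInstanceAs (PreconnectedSpace (PrimeSpectrum k[X]))
  haveI : Nonempty (EtCoh.top L).left := inferInstanceAs (Nonempty (PrimeSpectrum k[X]))
  have hγ : ∀ y : GrothLib.EtColim.Z L ⟶ T.X₂, ∃ c : M,
      GrothLib.EtColim.evOne T.X₂ y = cst M (EtCoh.top L) c ∧ β (y ≫ T.g) = fun _ => c := by
    intro y
    let s : (CM M L).obj.obj (op (EtCoh.top L)) := GrothLib.EtColim.evOne T.X₂ y
    let c := val M (EtCoh.top L) s (Classical.arbitrary _)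
    have hs : s = cst M (EtCoh.top L) c := ext_val M _ _ _ fun v =>
      ((isLocallyConstant_val M _ s).apply_eq_of_preconnectedSpace v _).trans (val_cst M _ c v).symm
    refine ⟨c, hs, funext fun m => ?_⟩
    have h1 := ConcreteCategory.congr_hom (GrothLib.EtDer.unit_pullConst i M) c
    simp only [CategoryTheory.comp_apply] at h1
    rw [cst_top, cst_top, ← hs] at h1
    refine Eq.trans ?_ (val_cst M (EtCoh.top Zs) c (p m))
    change val M (EtCoh.top Zs) (g₂ (g₁ (((EtCoh.pullPushAdj i).unit.app F).hom.app _ s))) (p m) = _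
    refine congrArg (fun t => val M (EtCoh.top Zs) t (p m)) ?_
    refine (congrArg g₂ h1.symm).trans ?_
    change ((EtCore.gsec Zs).map ((EtCore.pullConstIso i).inv.app M) ≫
      (EtCore.gsec Zs).map ((EtCore.pullConstIso i).hom.app M)) _ = _
    rw [← Functor.map_comp, Iso.inv_hom_id_app, CategoryTheory.Functor.map_id]
    rfl
  let e₀ : EtCoh.H L T.X₃ 0 ≃+ (Fin r → M) :=
    Ext.addEquiv₀.trans (AddEquiv.ofBijective β hβ)
  have he₀ : ∀ y : GrothLib.EtColim.Z L ⟶ T.X₃, e₀ (Ext.mk₀ y) = β y := fun y =>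
    congrArg β (Ext.addEquiv₀.apply_symm_apply y)
  have hrange : ∀ (y : EtCoh.H L T.X₂ 0), ∃ c : M,
      e₀ (Ext.comp y (Ext.mk₀ T.g) (add_zero 0)) = fun _ => c := fun y => by
    obtain ⟨y, rfl⟩ : ∃ z : GrothLib.EtColim.Z L ⟶ T.X₂, Ext.mk₀ z = y := ⟨_, Ext.mk₀_addEquiv₀_apply y⟩
    obtain ⟨c, -, hc⟩ := hγ y
    exact ⟨c, by rw [Ext.mk₀_comp_mk₀, he₀, hc]⟩
  have hconst : ∀ c : M, ∃ y : EtCoh.H L T.X₂ 0,
      e₀ (Ext.comp y (Ext.mk₀ T.g) (add_zero 0)) = fun _ => c := fun c => by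
    obtain ⟨y, hy⟩ := (GrothLib.EtColim.bijective_evOne T.X₂).2 (cst M (EtCoh.top L) c)
    obtain ⟨c', hc', hb⟩ := hγ y
    have : c' = c := cst_injective M (EtCoh.top L) (Classical.arbitrary _) (hc'.symm.trans hy)
    exact ⟨Ext.mk₀ y, by rw [Ext.mk₀_comp_mk₀, he₀, hb, this]⟩
  -- the statements for the localisation kernel
  have h0 : ∀ z : EtCoh.H L T.X₁ 0, z = 0 := fun z => by
    obtain ⟨z, rfl⟩ : ∃ y : GrothLib.EtColim.Z L ⟶ T.X₁, Ext.mk₀ y = z := ⟨_, Ext.mk₀_addEquiv₀_apply z⟩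
    obtain ⟨c, hc, hb⟩ := hγ (z ≫ T.f)
    rw [Category.assoc, T.zero, Limits.comp_zero, map_zero] at hb
    have hc0 : c = 0 := (congrFun hb ⟨0, hr⟩).symm
    have hz : z ≫ T.f = 0 := (GrothLib.EtColim.bijective_evOne T.X₂).1
      (hc.trans (by rw [hc0, map_zero]; rfl))
    haveI : Mono T.f := hT.mono_f
    rw [(zero_of_comp_mono T.f hz : z = 0), Ext.mk₀_zero]
  have h2 : ∀ q : ℕ, 2 ≤ q → ∀ z : EtCoh.H L T.X₁ q, z = 0 := fun q hq z => by
    obtain ⟨q, rfl⟩ : ∃ q', q = q' + 1 := ⟨q - 1, by omega⟩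
    obtain ⟨y, rfl⟩ := Ext.covariant_sequence_exact₁ _ hT z (hF _ (by omega) _) (rfl : q + 1 = q + 1)
    rw [hP q (by omega) y, Ext.zero_comp]
  have transfer : ∀ q : ℕ, (∀ z : EtCoh.H L T.X₁ q, z = 0) →
      Subsingleton (EtCoh.H L ((EtShriek.extZero j).obj (EtCoh.mu U ℓ)) q) := fun q h =>
    ⟨fun x y => by
      obtain ⟨x, rfl⟩ := (GrothLib.EtDer.bijective_comp_mk₀ eX q).2 x
      obtain ⟨y, rfl⟩ := (GrothLib.EtDer.bijective_comp_mk₀ eX q).2 y
      rw [h x, h y]⟩
  refine ⟨fun q hq => transfer q ?_, ?_⟩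
  · rcases Nat.lt_or_ge q 2 with h | h
    · obtain rfl : q = 0 := by omega
      exact h0
    · exact h2 q h
  -- degree one
  let δ : EtCoh.H L T.X₃ 0 →+ EtCoh.H L T.X₁ 1 :=
    AddMonoidHom.mk' (fun y => y.comp hT.extClass (rfl : 0 + 1 = 1)) fun y y' => Ext.add_comp _ _ _ _
  have hδ : Function.Surjective δ := fun z => by
    obtain ⟨y, hy⟩ := Ext.covariant_sequence_exact₁ _ hT z (hF _ le_rfl _) (rfl : 0 + 1 = 1)
    exact ⟨y, hy⟩
  let d : (Fin r → M) →+ (Fin (r - 1) → M) :=
    AddMonoidHom.mk' (fun f m => f ⟨m.1 + 1, by omega⟩ - f ⟨0, hr⟩)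
      fun f f' => funext fun m => by simp only [Pi.add_apply]; abel
  let φ : EtCoh.H L T.X₃ 0 →+ (Fin (r - 1) → M) := d.comp e₀.toAddMonoidHom
  have hφ : Function.Surjective φ := fun t => by
    refine ⟨e₀.symm (fun m => if h : m.1 = 0 then 0 else t ⟨m.1 - 1, by omega⟩), funext fun m => ?_⟩
    simp [φ, d]
  have hker : φ.ker = δ.ker := by
    ext y
    constructor
    · intro hy
      have hy' : ∀ m : Fin r, e₀ y m = e₀ y ⟨0, hr⟩ := fun m => by
        rcases Nat.eq_zero_or_pos m.1 with h | h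
        · exact congrArg (e₀ y) (Fin.ext h)
        · have := congrFun hy ⟨m.1 - 1, by omega⟩
          simp only [φ, d, AddMonoidHom.coe_comp, Function.comp_apply, AddEquiv.coe_toAddMonoidHom,
            AddMonoidHom.mk'_apply, Pi.zero_apply, sub_eq_zero] at this
          rw [← this]
          exact congrArg (e₀ y) (Fin.ext (by simp; omega))
      obtain ⟨x, hx⟩ := hconst (e₀ y ⟨0, hr⟩)
      have hxy : Ext.comp x (Ext.mk₀ T.g) (add_zero 0) = y := e₀.injective (hx.trans (funext fun m => (hy' m).symm))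
      change y.comp hT.extClass (rfl : 0 + 1 = 1) = 0
      rw [← hxy, Ext.comp_assoc_of_second_deg_zero, hT.comp_extClass, Ext.comp_zero]
    · intro hy
      obtain ⟨x, hx⟩ := Ext.covariant_sequence_exact₃ _ hT y rfl hy
      obtain ⟨c, hc⟩ := hrange x
      rw [hx] at hc
      change d (e₀ y) = 0
      rw [hc]
      exact funext fun m => sub_self c
  obtain ⟨e'⟩ : Nonempty (EtCoh.H L T.X₁ 1 ≃+ (Fin (r - 1) → M)) :=
    ⟨(QuotientAddGroup.quotientKerEquivOfSurjective δ hδ).symm.trans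
      ((QuotientAddGroup.quotientAddEquivOfEq hker.symm).trans
        (QuotientAddGroup.quotientKerEquivOfSurjective φ hφ))⟩
  haveI : NeZero ℓ := ⟨by rintro rfl; simp at hℓ⟩
  haveI : NeZero (ℓ : k) := ⟨hℓ⟩
  obtain ⟨ζ, hζ⟩ := HasEnoughRootsOfUnity.exists_primitiveRoot k ℓ
  have hu := hζ.isUnit_unit' (NeZero.ne ℓ)
  let eM : M ≃+ Additive (rootsOfUnity ℓ k) := (AddEquiv.ulift).trans
    (hu.zmodEquivZPowers.trans (MulEquiv.toAdditive (MulEquiv.subgroupCongr hu.zpowers_eq)))
  let eH : EtCoh.H L T.X₁ 1 ≃+ EtCoh.H L ((EtShriek.extZero j).obj (EtCoh.mu U ℓ)) 1 :=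
    AddEquiv.ofBijective (AddMonoidHom.mk' (fun z : EtCoh.H L T.X₁ 1 => z.comp (Ext.mk₀ eX.hom) (add_zero 1))
      fun x y => Ext.add_comp _ _ _ _) (GrothLib.EtDer.bijective_comp_mk₀ eX 1)
  exact ⟨eH.symm.trans (e'.trans (AddEquiv.piCongrRight fun _ => eM))⟩

end GrothLib.AffLine18
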